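import Cfsg.Agent.H687.DCoset
import Cfsg.Agent.S0150

/-!
# S4891, own characteristic: Mackey's formula for two linear characters (helper932)

`inner_two` : `⟨f^G, g^G⟩` is the number of double cosets `H x K` on which `f` and `g` agree.
-/

set_option autoImplicit false

open Cfsg
open scoped ComplexConjugate

namespace Cfsg.Agent.H932.OC

open Cfsg.Agent.Characters.Core Cfsg.Agent.OddOrderCharacters.Clifford

universe u

variable {G : Type u} [Group G]

/-- `f` and the conjugate of `g` by `x` agree on `H ∩ x K x⁻¹`. -/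
def Ag (H K : Subgroup G) (f : H →* ℂˣ) (g : K →* ℂˣ) (x : G) : Prop :=
  ∀ (t : H) (hx : x⁻¹ * t * x ∈ K), f t = g ⟨x⁻¹ * t * x, hx⟩

theorem Ag.mul_mem {H K : Subgroup G} {f : H →* ℂˣ} {g : K →* ℂˣ} {x : G} (hx : Ag H K f g x) {a b : G}
    (ha : a ∈ H) (hb : b ∈ K) : Ag H K f g (a * x * b) := by
  intro t ht
  have e1 : x⁻¹ * (a⁻¹ * t * a) * x ∈ K := by
    have e2 : x⁻¹ * (a⁻¹ * t * a) * x = b * ((a * x * b)⁻¹ * t * (a * x * b)) * b⁻¹ := by group
    rw [e2]
    exact K.mul_mem (K.mul_mem hb ht) (K.inv_mem hb)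
  have e3 := hx (⟨a, ha⟩⁻¹ * t * ⟨a, ha⟩) e1
  have e4 : (⟨(a * x * b)⁻¹ * t * (a * x * b), ht⟩ : K) =
      (⟨b, hb⟩ : K)⁻¹ * ⟨x⁻¹ * (a⁻¹ * t * a) * x, e1⟩ * ⟨b, hb⟩ := Subtype.ext (by
    show (a * x * b)⁻¹ * t * (a * x * b) = b⁻¹ * (x⁻¹ * (a⁻¹ * t * a) * x) * b
    group)
  have e5 : (⟨x⁻¹ * (((⟨a, ha⟩ : H)⁻¹ * t * ⟨a, ha⟩ : H) : G) * x, e1⟩ : K) =
    ⟨x⁻¹ * (a⁻¹ * t * a) * x, e1⟩ := rfl
  rw [e4, map_mul, map_mul, map_inv, mul_comm, mul_inv_cancel_left, ← e5, ← e3, map_mul, map_mul, map_inv,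
    mul_comm, mul_inv_cancel_left]

/-- `H ∩ x K x⁻¹`, as a subgroup of `H` -/
def inr (H K : Subgroup G) (x : G) : Subgroup H where
  carrier := {t | x⁻¹ * t * x ∈ K}
  mul_mem' := by
    intro a b ha hb
    have h1 : x⁻¹ * ((a * b : H) : G) * x = (x⁻¹ * a * x) * (x⁻¹ * b * x) := by
      rw [Subgroup.coe_mul]; group
    show x⁻¹ * ((a * b : H) : G) * x ∈ K
    rw [h1]
    exact K.mul_mem ha hb
  one_mem' := by
    show x⁻¹ * ((1 : H) : G) * x ∈ K
    have h1 : x⁻¹ * ((1 : H) : G) * x = 1 := by simp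
    rw [h1]
    exact K.one_mem
  inv_mem' := by
    intro a ha
    have h1 : x⁻¹ * ((a⁻¹ : H) : G) * x = (x⁻¹ * a * x)⁻¹ := by
      rw [Subgroup.coe_inv]; group
    show x⁻¹ * ((a⁻¹ : H) : G) * x ∈ K
    rw [h1]
    exact K.inv_mem ha

theorem mem_inr {H K : Subgroup G} {x : G} {t : H} : t ∈ inr H K x ↔ x⁻¹ * t * x ∈ K := Iff.rfl

/-- the Mackey term -/
noncomputable def trm [Finite G] (H K : Subgroup G) [Fintype H] (f : H →* ℂˣ) (g : K →* ℂˣ) (x : G) : ℂ :=
  ∑ t : H, (f t : ℂ) * conj (extendByZero K (fun t => (g t : ℂ)) (x⁻¹ * t * x))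

theorem trm_ag [Finite G] (H K : Subgroup G) [Fintype H] (f : H →* ℂˣ) (g : K →* ℂˣ) {x : G} (h : Ag H K f g x) :
    trm H K f g x = (Nat.card (inr H K x) : ℂ) := by
  classical
  unfold trm
  have h0 : ∀ t : H, t ∈ inr H K x →
      (f t : ℂ) * conj (extendByZero K (fun t => (g t : ℂ)) (x⁻¹ * t * x)) = 1 := by
    intro t ht
    rw [ext_apply_mem K _ _ (mem_inr.1 ht), ← h t (mem_inr.1 ht)]
    exact CharactersDeep.MackeyLinear.mul_conj_hom f _
  have h0' : ∀ t : H, t ∉ inr H K x →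
      (f t : ℂ) * conj (extendByZero K (fun t => (g t : ℂ)) (x⁻¹ * t * x)) = 0 := by
    intro t ht
    rw [mem_inr] at ht
    rw [ext_apply_not_mem K _ _ ht, map_zero, mul_zero]
  rw [← Finset.sum_subset (Finset.filter_subset (fun t => t ∈ inr H K x) Finset.univ)
    (fun t _ ht => h0' t fun h => ht (Finset.mem_filter.2 ⟨Finset.mem_univ _, h⟩)),
    Finset.sum_congr rfl fun t ht => h0 t (Finset.mem_filter.1 ht).2, Finset.sum_const, nsmul_eq_mul, mul_one]
  have h5 : (Finset.univ.filter fun t : H => t ∈ inr H K x).card = Nat.card (inr H K x) :=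
    (Nat.subtype_card _ fun y => by simp).symm
  rw [h5]

theorem trm_not_ag [Finite G] (H K : Subgroup G) [Fintype H] (f : H →* ℂˣ) (g : K →* ℂˣ) {x : G}
    (h : ¬ Ag H K f g x) : trm H K f g x = 0 := by
  classical
  unfold Ag at h
  push Not at h
  obtain ⟨t₀, ht₀, hne⟩ := h
  have hK : Finite K := inferInstance
  unfold trm
  set F : H → ℂ := fun t => (f t : ℂ) * conj (extendByZero K (fun t => (g t : ℂ)) (x⁻¹ * t * x)) with hF
  set c : ℂ := (f t₀ : ℂ) * conj (g ⟨x⁻¹ * t₀ * x, ht₀⟩ : ℂ) with hc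
  have hmul : ∀ t : H, F (t₀ * t) = c * F t := by
    intro t
    simp only [hF, hc]
    by_cases ht : x⁻¹ * (t : G) * x ∈ K
    · have hprod : x⁻¹ * ((t₀ * t : H) : G) * x ∈ K := by
        have : x⁻¹ * ((t₀ * t : H) : G) * x = (x⁻¹ * (t₀ : G) * x) * (x⁻¹ * (t : G) * x) := by
          simp [mul_assoc]
        rw [this]
        exact K.mul_mem ht₀ ht
      rw [ext_apply_mem K _ _ hprod, ext_apply_mem K _ _ ht]
      have hf : g ⟨x⁻¹ * ((t₀ * t : H) : G) * x, hprod⟩ =
          g ⟨x⁻¹ * (t₀ : G) * x, ht₀⟩ * g ⟨x⁻¹ * (t : G) * x, ht⟩ := by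
        rw [← map_mul]
        congr 1
        apply Subtype.ext
        show x⁻¹ * ((t₀ * t : H) : G) * x = (x⁻¹ * (t₀ : G) * x) * (x⁻¹ * (t : G) * x)
        simp [mul_assoc]
      rw [hf, map_mul, Units.val_mul, Units.val_mul, map_mul]
      ring
    · have hprod : x⁻¹ * ((t₀ * t : H) : G) * x ∉ K := by
        intro hcon
        apply ht
        have : x⁻¹ * (t : G) * x = (x⁻¹ * (t₀ : G) * x)⁻¹ * (x⁻¹ * ((t₀ * t : H) : G) * x) := by
          simp [mul_assoc]
        rw [this]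
        exact K.mul_mem (K.inv_mem ht₀) hcon
      rw [ext_apply_not_mem K _ _ hprod, ext_apply_not_mem K _ _ ht]
      simp
  have hsum : ∑ t, F t = c * ∑ t, F t := by
    rw [Finset.mul_sum, ← Finset.sum_congr rfl fun t _ => hmul t]
    exact (Fintype.sum_equiv (Equiv.mulLeft t₀) _ _ fun t => rfl).symm
  by_contra h0
  apply hne
  have hc1 : c = 1 := by
    have h1 : (c - 1) * ∑ t, F t = 0 := by
      rw [sub_mul, one_mul, ← hsum, sub_self]
    rcases mul_eq_zero.1 h1 with h2 | h2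
    · exact sub_eq_zero.1 h2
    · exact absurd h2 h0
  apply Units.ext
  have h2 := CharactersDeep.MackeyLinear.mul_conj_hom g ⟨x⁻¹ * t₀ * x, ht₀⟩
  have h3 : (f t₀ : ℂ) * (conj (g ⟨x⁻¹ * t₀ * x, ht₀⟩ : ℂ) * (g ⟨x⁻¹ * t₀ * x, ht₀⟩ : ℂ)) =
      (g ⟨x⁻¹ * t₀ * x, ht₀⟩ : ℂ) := by
    rw [← mul_assoc, ← hc, hc1, one_mul]
  rwa [mul_comm (conj _), h2, mul_one] at h3

open Classical in
theorem inner_mul [Fintype G] (H K : Subgroup G) (f : H →* ℂˣ) (g : K →* ℂˣ) :
    classInner (indFun H fun t => (f t : ℂ)) (indFun K fun t => (g t : ℂ)) * ((Nat.card H : ℂ) * (Nat.card K : ℂ)) =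
      ((∑ x : G, if Ag H K f g x then Nat.card (inr H K x) else 0 : ℕ) : ℂ) := by
  have : Fintype H := Fintype.ofFinite H
  have hH : (Nat.card H : ℂ) ≠ 0 := by exact_mod_cast Nat.card_pos.ne'
  have hK : (Nat.card K : ℂ) ≠ 0 := by exact_mod_cast Nat.card_pos.ne'
  have h1 : ∑ x : G, trm H K f g x = ((∑ x : G, if Ag H K f g x then Nat.card (inr H K x) else 0 : ℕ) : ℂ) := by
    push_cast
    refine Finset.sum_congr rfl fun x _ => ?_
    split_ifs with h
    · exact trm_ag H K f g h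
    · exact trm_not_ag H K f g h
  rw [← h1, S0150.classInner_indFun H _ _ (fun a b => S0150.indFun_isClassFunction K _ a b)]
  have h2 : classInner (fun t : H => (f t : ℂ)) (fun x : H => indFun K (fun t => (g t : ℂ)) x) =
      (Nat.card H : ℂ)⁻¹ * ((Nat.card K : ℂ)⁻¹ * ∑ x : G, trm H K f g x) := by
    show (Nat.card H : ℂ)⁻¹ * ∑ t : H, (f t : ℂ) * conj (indFun K (fun t => (g t : ℂ)) (t : G)) = _
    congr 1
    have h3 : ∀ t : H, (f t : ℂ) * conj (indFun K (fun t => (g t : ℂ)) (t : G)) =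
        (Nat.card K : ℂ)⁻¹ * ∑ x : G, (f t : ℂ) * conj (extendByZero K (fun t => (g t : ℂ)) (x⁻¹ * t * x)) := by
      intro t
      rw [Characters.Core.indFun_apply, map_mul, map_inv₀, Complex.conj_natCast, map_sum, Finset.mul_sum, Finset.mul_sum,
        Finset.mul_sum]
      refine Finset.sum_congr rfl fun x _ => ?_
      ring
    rw [Finset.sum_congr rfl fun t _ => h3 t, ← Finset.mul_sum, Finset.sum_comm]
    rfl
  rw [h2]
  field_simp

/-! ### double cosets as orbits -/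

/-- The action of `H × K` with the double cosets as orbits. -/
@[reducible] def dcA (H K : Subgroup G) : MulAction (H × K) G where
  smul ab g := ab.1 * g * (ab.2 : G)⁻¹
  one_smul g := by
    show ((1 : H × K).1 : G) * g * ((1 : H × K).2 : G)⁻¹ = g
    simp
  mul_smul a b g := by
    show ((a * b).1 : G) * g * ((a * b).2 : G)⁻¹ = a.1 * (b.1 * g * (b.2 : G)⁻¹) * (a.2 : G)⁻¹
    simp [mul_assoc]

theorem mem_dcA_iff (H K : Subgroup G) (x y : G) :
    letI := dcA H K
    y ∈ MulAction.orbit (H × K) x ↔ ∃ a ∈ H, ∃ b ∈ K, y = a * x * b := by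
  let _ := dcA H K
  constructor
  · rintro ⟨⟨a, b⟩, rfl⟩
    exact ⟨a, a.2, (b : G)⁻¹, K.inv_mem b.2, rfl⟩
  · rintro ⟨a, ha, b, hb, rfl⟩
    refine ⟨(⟨a, ha⟩, ⟨b⁻¹, K.inv_mem hb⟩), ?_⟩
    show a * x * (b⁻¹)⁻¹ = a * x * b
    rw [inv_inv]

theorem card_stabA (H K : Subgroup G) (x : G) :
    letI := dcA H K
    Nat.card (MulAction.stabilizer (H × K) x) = Nat.card (inr H K x) := by
  let _ := dcA H K
  refine Nat.card_congr ⟨fun ab => ⟨(ab : H × K).1, ?_⟩, fun d => ⟨(d, ⟨x⁻¹ * (d : H) * x, mem_inr.1 d.2⟩), ?_⟩,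
    ?_, ?_⟩
  · have h : (((ab : H × K).1 : H) : G) * x * (((ab : H × K).2 : K) : G)⁻¹ = x := ab.2
    rw [mem_inr]
    have h2 : x⁻¹ * (((ab : H × K).1 : H) : G) * x = (((ab : H × K).2 : K) : G) := by
      have h3 := mul_inv_eq_iff_eq_mul.1 h
      rw [mul_assoc, h3, inv_mul_cancel_left]
    rw [h2]
    exact ((ab : H × K).2).2
  · show (d : G) * x * (x⁻¹ * (d : H) * x)⁻¹ = x
    group
  · rintro ⟨⟨a, b⟩, h⟩
    have h : (a : G) * x * (b : G)⁻¹ = x := h
    apply Subtype.ext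
    refine Prod.ext rfl (Subtype.ext ?_)
    have h3 := mul_inv_eq_iff_eq_mul.1 h
    show x⁻¹ * (a : G) * x = b
    rw [mul_assoc, h3, inv_mul_cancel_left]
  · intro d
    rfl

theorem sum_dcA [Fintype G] (H K : Subgroup G) (x : G) :
    letI := dcA H K
    ∀ [DecidablePred fun y : G => y ∈ MulAction.orbit (H × K) x],
      ∑ y : G, (if y ∈ MulAction.orbit (H × K) x then Nat.card (inr H K y) else 0) = Nat.card H * Nat.card K := by
  let _ := dcA H K
  intro _
  have : Finite G := inferInstance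
  have h1 : ∀ y : G, (if y ∈ MulAction.orbit (H × K) x then Nat.card (inr H K y) else 0) =
      if y ∈ MulAction.orbit (H × K) x then Nat.card (inr H K x) else 0 := by
    intro y
    split_ifs with h
    · rw [← card_stabA, ← card_stabA]
      have h2 := H687.card_orbit_mul (K := H × K) y
      have h3 := H687.card_orbit_mul (K := H × K) x
      rw [MulAction.orbit_eq_iff.2 h] at h2
      have : Nonempty (MulAction.orbit (H × K) x) := ⟨⟨x, MulAction.mem_orbit_self x⟩⟩
      have h4 : 0 < Nat.card (MulAction.orbit (H × K) x) := Nat.card_pos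
      exact Nat.eq_of_mul_eq_mul_left h4 (h2.trans h3.symm)
    · rfl
  rw [Finset.sum_congr rfl fun y _ => h1 y, ← Finset.sum_filter, Finset.sum_const, smul_eq_mul]
  have h5 : (Finset.univ.filter fun y : G => y ∈ MulAction.orbit (H × K) x).card =
      Nat.card (MulAction.orbit (H × K) x) :=
    (Nat.subtype_card _ fun y => by simp).symm
  rw [h5, ← card_stabA, H687.card_orbit_mul, Nat.card_prod]

/-- **Mackey**: if exactly one double coset `H x K` agrees then `⟨f^G, g^G⟩ = 1`. -/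
theorem inner_two [Fintype G] (H K : Subgroup G) (f : H →* ℂˣ) (g : K →* ℂˣ) (x : G) (hx : Ag H K f g x)
    (hu : ∀ y, Ag H K f g y → ∃ a ∈ H, ∃ b ∈ K, y = a * x * b) :
    classInner (indFun H fun t => (f t : ℂ)) (indFun K fun t => (g t : ℂ)) = 1 := by
  classical
  let _ := dcA H K
  have hH : (Nat.card H : ℂ) ≠ 0 := by exact_mod_cast Nat.card_pos.ne'
  have hK : (Nat.card K : ℂ) ≠ 0 := by exact_mod_cast Nat.card_pos.ne'
  have h1 := inner_mul H K f g
  have h2 : (∑ y : G, if Ag H K f g y then Nat.card (inr H K y) else 0) = Nat.card H * Nat.card K := by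
    rw [← sum_dcA H K x]
    refine Finset.sum_congr rfl fun y _ => ?_
    by_cases hy : y ∈ MulAction.orbit (H × K) x
    · rw [if_pos hy, if_pos]
      obtain ⟨a, ha, b, hb, rfl⟩ := (mem_dcA_iff H K x y).1 hy
      exact hx.mul_mem ha hb
    · rw [if_neg hy, if_neg]
      exact fun h => hy ((mem_dcA_iff H K x y).2 (hu y h))
  rw [h2] at h1
  push_cast at h1
  have h3 : ((Nat.card H : ℂ) * (Nat.card K : ℂ)) ≠ 0 := mul_ne_zero hH hK
  exact mul_right_cancel₀ h3 (by rw [h1, one_mul])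

/-- **Mackey**: `⟨f^G, g^G⟩` is the number of double cosets on which `f` and `g` agree. -/
theorem inner_card [Fintype G] (H K : Subgroup G) (f : H →* ℂˣ) (g : K →* ℂˣ) {ι : Type*} [Fintype ι] (x : ι → G)
    (hx : ∀ i, Ag H K f g (x i)) (hd : ∀ i j, i ≠ j → ¬ ∃ a ∈ H, ∃ b ∈ K, x j = a * x i * b)
    (hu : ∀ y, Ag H K f g y → ∃ i, ∃ a ∈ H, ∃ b ∈ K, y = a * x i * b) :
    classInner (indFun H fun t => (f t : ℂ)) (indFun K fun t => (g t : ℂ)) = (Fintype.card ι : ℂ) := by
  classical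
  let _ := dcA H K
  have hH : (Nat.card H : ℂ) ≠ 0 := by exact_mod_cast Nat.card_pos.ne'
  have hK : (Nat.card K : ℂ) ≠ 0 := by exact_mod_cast Nat.card_pos.ne'
  have h1 := inner_mul H K f g
  have h2 : (∑ y : G, if Ag H K f g y then Nat.card (inr H K y) else 0) =
      Fintype.card ι * (Nat.card H * Nat.card K) := by
    calc (∑ y : G, if Ag H K f g y then Nat.card (inr H K y) else 0)
        = ∑ y : G, ∑ i : ι, (if y ∈ MulAction.orbit (H × K) (x i) then Nat.card (inr H K y) else 0) := by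
          refine Finset.sum_congr rfl fun y _ => ?_
          by_cases hy : Ag H K f g y
          · obtain ⟨i, hi⟩ := hu y hy
            rw [← mem_dcA_iff] at hi
            rw [if_pos hy, Finset.sum_eq_single i, if_pos hi]
            · intro j _ hj
              rw [if_neg]
              intro hj2
              apply hd i j (Ne.symm hj)
              rw [← mem_dcA_iff]
              rw [← MulAction.orbit_eq_iff] at hi hj2 ⊢
              rw [← hj2, hi]
            · exact fun h => absurd (Finset.mem_univ _) h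
          · rw [if_neg hy, Finset.sum_eq_zero]
            intro i _
            rw [if_neg]
            intro hi
            obtain ⟨a, ha, b, hb, rfl⟩ := (mem_dcA_iff H K (x i) y).1 hi
            exact hy ((hx i).mul_mem ha hb)
      _ = ∑ i : ι, ∑ y : G, (if y ∈ MulAction.orbit (H × K) (x i) then Nat.card (inr H K y) else 0) :=
          Finset.sum_comm
      _ = ∑ i : ι, Nat.card H * Nat.card K := Finset.sum_congr rfl fun i _ => sum_dcA H K (x i)
      _ = Fintype.card ι * (Nat.card H * Nat.card K) := by rw [Finset.sum_const, Finset.card_univ, smul_eq_mul]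
  rw [h2] at h1
  push_cast at h1
  have h3 : ((Nat.card H : ℂ) * (Nat.card K : ℂ)) ≠ 0 := mul_ne_zero hH hK
  exact mul_right_cancel₀ h3 h1

end Cfsg.Agent.H932.OC
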