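import Cfsg.Agent.H932.OC.Sep
import Cfsg.Agent.H798.Oc.Main
import Cfsg.Agent.H993.OC.Row
import Cfsg.Agent.H936.DSChev
import Cfsg.Agent.H145.BR.RowZ

/-!
# S4891, S4857, own characteristic: the rows `³D₄(q)`, `²E₆(q)` (helper932)

* `OCInt p S` : the row of the own characteristic with integer valued characters; `OCInt.row`, `OCInt.rowZ`;
* `ocRow_twD4` : `OCRow p (twistedD4 K q)`, `|K| = q³`, `p` odd;
* `ocRow_twE6` : `OCRow p (twistedE6 K q)`, `|K| = q²`, `p` odd;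
* `rowForZ_tw` : `RowForZ p (IsTwistedE6D4Char p)`, `p` odd (S4857).
-/

set_option autoImplicit false
set_option linter.unusedSectionVars false

namespace Cfsg.Agent.H932.OC

open CoxeterSystem Cfsg.Agent.ChevalleyStructure.CoxeterGeom Cfsg.Agent.Tits.Roots Cfsg.Agent.Tits.Core
  Cfsg.Agent.Nodes.Reps Cfsg.Agent.Nodes.BNOf Cfsg.Agent.Nodes.StabComb Cfsg.Agent.Nodes.OppDec Cfsg.Agent.Nodes.Bruhat
  Cfsg.Agent.Nodes.RGDTwGen Cfsg.Agent.Nodes.RGDChev Cfsg.Agent.Nodes.RGDFold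
  Cfsg.Agent.Nodes.RGDFoldSL Cfsg.Agent.Nodes.RGDTwCoord Cfsg.Agent.Nodes.NormX Cfsg.Agent.Nodes.LeviDec
open Cfsg.Lie Cfsg.Agent.ChevalleyStructure Cfsg.Agent.ChevalleyStructure.Elts Cfsg.Agent.H967.ThRgd Cfsg.Agent.H967.ThTw
open Cfsg.Agent.H993.OC Cfsg.Agent.H798.Oc.Ind Cfsg.Agent.Nodes

universe u v

section

open Cfsg Cfsg.Agent.H145.BR

/-- for every `p`-group of automorphisms an invariant integer valued nontrivial character of degree prime to `p` -/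
def OCInt (p : ℕ) (S : Type u) [Group S] : Prop :=
  ∀ A : Subgroup (MulAut S), IsPGroup p A → ∃ θ : S → ℂ, IsIrrCharacter S θ ∧ θ ≠ 1 ∧ (∃ d : ℕ, θ 1 = d ∧ ¬ p ∣ d) ∧
    (∀ g, ∃ k : ℤ, θ g = k) ∧ ∀ a ∈ A, ∀ x, θ (a x) = θ x

theorem OCInt.row {p : ℕ} [Fact p.Prime] {S : Type u} [Group S] (h : OCInt p S) : OCRow p S := by
  intro A hA
  obtain ⟨θ, h3, h4, h5, h6, h7⟩ := h A hA
  exact ⟨θ, h3, h4, h5, H145.BR.pRat_of_int h6, h7⟩

theorem OCInt.of_equiv {p : ℕ} {S : Type u} [Group S] {X : Type v} [Group X] (e : X ≃* S) (h : OCInt p S) :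
    OCInt p X := by
  intro A hA
  obtain ⟨θ, h1, h2, ⟨d, h3, h3'⟩, h4, h5⟩ := h (A.map (MulAut.congr e).toMonoidHom) (hA.map _)
  refine ⟨fun x => θ (e x), Cfsg.Agent.Characters.Core.isIrr_comp e.toMonoidHom e.surjective h1,
    fun h => h2 (funext fun s => ?_), ⟨d, ?_, h3'⟩, fun g => h4 (e g), fun a ha x => ?_⟩
  · have := congrFun h (e.symm s)
    simpa using this
  · change θ (e 1) = d
    rw [map_one, h3]
  · have h6 := h5 (MulAut.congr e a) ⟨a, ha, rfl⟩ (e x)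
    have h7 : (MulAut.congr e a) (e x) = e (a x) := by
      change e (a (e.symm (e x))) = _
      rw [MulEquiv.symm_apply_apply]
    rw [h7] at h6
    exact h6

/-- in the own characteristic `OCInt` gives the integer valued row of S4857 -/
theorem OCInt.rowZ {p : ℕ} [Fact p.Prime] (hp2 : p ≠ 2) {X : Type} [Group X] [Finite X] [IsSimpleGroup X]
    (hna : ¬ IsMulCommutative X) (hX : IsLieTypeChar p X) (h : OCInt p X) : RowZ p X := by
  intro A hA M hM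
  obtain ⟨θ, h1, h2, ⟨d, h3, h3'⟩, h4, h5⟩ := h A hA
  have hd : ¬ p ∣ charDegree θ := by
    have h6 := Cfsg.Agent.Blocks.Basic.irr_one_eq_charDegree h1
    rw [h3] at h6
    have h7 : d = charDegree θ := by exact_mod_cast h6
    rwa [← h7]
  exact ⟨⟨θ, h1⟩, mem_b0 hp2 hna hX hM _ hd, h2, hd, h4, h5⟩

end

section

variable {D : ChevalleyDatum} {l m : ℕ} {M' : CoxeterMatrix (Fin l)} {hp : IsType D l M'} {K : Type u} [Field K]
  {M : CoxeterMatrix (Fin m)} {A : Fin m → Fin m → ℤ} {J : Fin m → List (Fin l)} {L : List (List ℕ)}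
  {σ : GL D.Idx K →* GL D.Idx K} {ρ ρ' : ℕ → ℕ} {f : ℕ → K → K} {G : Subgroup (GL D.Idx K)} {φ : K →+* K}
  {ε δ : ℕ → ℤ} {O : List (List ℕ)} {dg : ℕ → ℕ → ℕ}
  {W : Type*} [Group W] {t : ℕ} [Finite K] {p : ℕ} [Fact p.Prime] [CharP K p]

/-- **The row of a twisted group.** -/
theorem ocInt_tw (TC : TwC hp K M A J L σ ρ ρ' f G φ ε δ O dg) (C : Chk D M A J O dg t) (hp2 : p ≠ 2)
    (cs : CoxeterSystem M W) (h : IsCartan M A) [Finite W]
    {rp : Fin m → ℕ} {rest : Fin m → List ℕ} (NO : ∀ i, NodeOK D J L ρ i (rp i) (rest i))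
    (hf : ∀ i, ∀ s ∈ rp i :: rest i, ∀ t, f s t = φ t)
    (hsym : ∀ i j, Nat.card {a : K // Ok D J O φ (sr i) a} = Nat.card {a : K // Ok D J O φ (sr j) a} →
      (cl D J O (sr i)).length = (cl D J O (sr j)).length)
    (hN : ∀ j (d : K), φ d = d → d ≠ 0 → ∃ c : K, c ≠ 0 ∧ φ^[(rest j).length + 1] c = c ∧
      ∀ s, [s] ∈ O → wt D φ (J j) s c = d ^ D.cartan (jh J j) s)
    (h2 : ∀ σ : Equiv.Perm (Fin m), (∀ i j, M (σ i) (σ j) = M i j) → σ ^ 2 = 1)
    (hd : ∃ i, Cfsg.Agent.Nodes.RGDFold.refl A i (V D J t) ≠ V D J t ∧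
      Cfsg.Agent.Nodes.RGDFold.refl A i (V D J t) ≠ -V D J t) : OCInt p ↥G := by
  obtain ⟨hV, hG, hB, hsep, -⟩ := tw_data TC C hp2 cs h NO hf hsym hN
  have R := Cfsg.Agent.Nodes.RGDFold.rgd cs h TC.FD TC.FG p
  have hV' := hV
  obtain ⟨u, i, hu⟩ := hV'
  intro Au hAu
  exact H798.Oc.Main.main_root R hG hp2 h2 hV hB (i := i) (w₁ := u⁻¹)
    (by rw [hu, rep_inv_apply]) (fun w hw => hsep w fun s hs g1 g2 => by
      have := hw s hs
      rwa [sv_eq g1, sv_eq g2] at this) (by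
      obtain ⟨j, hj1, hj2⟩ := hd
      exact ⟨cs.simple j, by rwa [rep_refl], by rwa [rep_refl]⟩) Au hAu

end

section D4

open RGDTwD4

variable {K : Type u} [Field K]

/-- **`³D₄(q)`, `p ∣ q`, `p` odd.** -/
theorem ocInt_twD4 {p : ℕ} [Fact p.Prime] (hp : p ≠ 2) [Fintype K] [CharP K p] {q : ℕ}
    (hK : Fintype.card K = q ^ 3) : OCInt p ↥(Cfsg.Lie.twistedD4 K q) := by
  obtain ⟨hq, hq1⟩ := primePow_of_card (p := p) (by norm_num) hK
  obtain ⟨φ, hφ⟩ := D4Fixed.exists_frob hq hK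
  have := RGDFold.finite_W (hp := RGDTwD4.hp) CoxeterMatrix.G₂.toCoxeterSystem RGDTwD4.isCartan RGDTwD4.foldData
  have hl : ∀ i : Fin 2, (cl chevD4 RGDTwD4.J O4 (sr i)).length = (![1, 3] : Fin 2 → ℕ) i := by decide +kernel
  have hJ : ∀ i : Fin 2, (RGDTwD4.J i).length = (RGDTwNode.D4.rest i).length + 1 := by decide +kernel
  have hJ' : ∀ i : Fin 2, (RGDTwD4.J i).length = 1 ∨ (RGDTwD4.J i).length = 3 := by decide +kernel
  have hc : ∀ o ∈ O4, o.length = 1 → ∀ j : Fin 2, ∀ i ∈ RGDTwD4.J j,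
      chevD4.cartan i (o.headD 0) = chevD4.cartan (jh RGDTwD4.J j) (o.headD 0) := by decide +kernel
  refine ocInt_tw (p := p) (twC4 hφ (D4Fixed.twisted_le_fix hK hφ)) chk4 hp CoxeterMatrix.G₂.toCoxeterSystem
    RGDTwD4.isCartan RGDTwNode.D4.nodeOK ?_ ?_ ?_ ?_ ?_
  · intro i s hs t
    show ((RGDTwD4.eps s : ℤ) : K) * φ t = φ t
    rw [RGDTwNode.D4.eps_one i s hs, Int.cast_one, one_mul]
  · intro i j hij
    have hne := card_ne (K := K) (φ := φ) hq1 (k := 3) (by norm_num) hφ hK (iterate_eq_self hφ hK)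
    unfold Ok at hij
    rw [hl, hl] at hij ⊢
    fin_cases i <;> fin_cases j
    · rfl
    · exact absurd hij hne
    · exact absurd hij.symm hne
    · rfl
  · intro j d hd hd0
    rcases hJ' j with h1 | h1
    · refine ⟨d, hd0, ?_, fun s hs => ?_⟩
      · rw [← hJ, h1]; exact hd
      · have h2 := wt_of_eq (φ := φ) _ d hd0 (hc [s] hs rfl j)
        rw [h1, Finset.prod_range_one] at h2
        exact h2
    · obtain ⟨c, hc0, hcd⟩ := exists_norm hq1 hK hd0 (by rw [← hφ]; exact hd)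
      refine ⟨c, hc0, ?_, fun s hs => ?_⟩
      · rw [← hJ, h1]; exact iterate_eq_self hφ hK c
      · have h2 := wt_of_eq (φ := φ) _ c hc0 (hc [s] hs rfl j)
        rw [h1, prod_iterate hφ, hcd] at h2
        exact h2
  · intro σ _
    have : ∀ σ : Equiv.Perm (Fin 2), σ ^ 2 = 1 := by decide
    exact this σ
  · decide +kernel

end D4

section E6

variable {K : Type u} [Field K]

/-- **`²E₆(q)`, `p ∣ q`, `p` odd.** -/
theorem ocInt_twE6 {p : ℕ} [Fact p.Prime] (hp : p ≠ 2) [Fintype K] [CharP K p] {q : ℕ}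
    (hK : Fintype.card K = q ^ 2) : OCInt p ↥(Cfsg.Lie.twistedE6 K q) := by
  obtain ⟨hq, hq1⟩ := primePow_of_card (p := p) (by norm_num) hK
  obtain ⟨φ, hφ, hqq⟩ := TwE6Basic.exists_frob hq hK
  have := RGDFold.finite_W (hp := RGDTwE6.hp) CoxeterMatrix.F₄.toCoxeterSystem RGDTwE6.isCartan RGDTwE6.foldData
  have hl : ∀ i : Fin 4, (cl chevE6 RGDTwE6.J RGDTwCoordE6.O (sr i)).length = (![1, 1, 2, 2] : Fin 4 → ℕ) i := by
    decide +kernel
  have hJ : ∀ i : Fin 4, (RGDTwE6.J i).length = (RGDTwNode.E6.rest i).length + 1 := by decide +kernel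
  have hJ' : ∀ i : Fin 4, (RGDTwE6.J i).length = 1 ∨ (RGDTwE6.J i).length = 2 := by decide +kernel
  refine ocInt_tw (p := p) (RGDTwComE6.twC hφ hqq) chk6 hp CoxeterMatrix.F₄.toCoxeterSystem
    RGDTwE6.isCartan RGDTwNode.E6.nodeOK ?_ ?_ ?_ ?_ ?_
  · intro i s hs t
    show ((TwistedE6Sigma.eps s : ℤ) : K) * φ t = φ t
    rw [RGDTwNode.E6.eps_one i s hs, Int.cast_one, one_mul]
  · intro i j hij
    have hne := card_ne (K := K) (φ := φ) hq1 (k := 2) (by norm_num) hφ hK (iterate_eq_self hφ hK)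
    unfold Ok at hij
    rw [hl, hl] at hij ⊢
    fin_cases i <;> fin_cases j <;> first | rfl | exact absurd hij hne | exact absurd hij.symm hne
  · intro j d hd hd0
    rcases hJ' j with h1 | h1
    · refine ⟨d, hd0, ?_, fun s hs => ?_⟩
      · rw [← hJ, h1]; exact hd
      · have h2 := wt_of_eq (φ := φ) _ d hd0 (cart6 [s] hs rfl j)
        rw [h1, Finset.prod_range_one] at h2
        exact h2
    · obtain ⟨c, hc0, hcd⟩ := exists_norm hq1 hK hd0 (by rw [← hφ]; exact hd)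
      refine ⟨c, hc0, ?_, fun s hs => ?_⟩
      · rw [← hJ, h1]; exact iterate_eq_self hφ hK c
      · have h2 := wt_of_eq (φ := φ) _ c hc0 (cart6 [s] hs rfl j)
        rw [h1, prod_iterate hφ, hcd] at h2
        exact h2
  · exact H936.symTwo_F4
  · decide +kernel

end E6

section Rows

variable {K : Type u} [Field K] {p : ℕ} [Fact p.Prime]

/-- **Row `³D₄(q)`, `p ∣ q`, `p` odd.** -/
theorem ocRow_twD4 (hp : p ≠ 2) [Fintype K] [CharP K p] {q : ℕ}
    (hK : Fintype.card K = q ^ 3) : OCRow p ↥(Cfsg.Lie.twistedD4 K q) := (ocInt_twD4 hp hK).row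

/-- **Row `²E₆(q)`, `p ∣ q`, `p` odd.** -/
theorem ocRow_twE6 (hp : p ≠ 2) [Fintype K] [CharP K p] {q : ℕ}
    (hK : Fintype.card K = q ^ 2) : OCRow p ↥(Cfsg.Lie.twistedE6 K q) := (ocInt_twE6 hp hK).row

/-- **The own characteristic row of `³D₄(q)`, `²E₆(q)` in S4857.** -/
theorem rowForZ_tw (hp : p ≠ 2) : H145.BR.RowForZ p (fun X _ => Cfsg.IsTwistedE6D4Char p X) := by
  intro X _ _ _ hna _ hX
  have hL : Cfsg.IsLieTypeChar p X := by
    unfold Cfsg.IsLieTypeChar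
    tauto
  obtain ⟨K, _, _, _, q, -, ⟨hK, ⟨e⟩⟩ | ⟨hK, ⟨e⟩⟩⟩ := hX
  · exact ((ocInt_twE6 hp hK).of_equiv e).rowZ hp hna hL
  · exact ((ocInt_twD4 hp hK).of_equiv e).rowZ hp hna hL

end Rows

end Cfsg.Agent.H932.OC
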