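import Cfsg.Agent.H967.ThTwGood
import Cfsg.Agent.H798.Oc.Sign

/-!
# S4891, own characteristic: the hypotheses of the abstract theorem for `³D₄(q)`, `²E₆(q)` (helper932)
-/

set_option autoImplicit false
set_option linter.unusedSectionVars false

namespace Cfsg.Agent.H932.OC

open Cfsg.Agent.H798.Oc.Sign

section Scal

variable {G : Type*} [Group G] [Finite G] {F : Type*} [Field F] [Finite F]

/-- the sign of the multiplications -/
noncomputable def smul (F : Type*) [Field F] [Finite F] : Fˣ →* ℤˣ := sgn.comp (MulAction.toPermHom Fˣ F)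

theorem smul_gen (hodd : Odd (Nat.card F)) {d : Fˣ} (hd : ∀ x : Fˣ, x ∈ Subgroup.zpowers d) : smul F d = -1 := by
  show sgn (MulAction.toPermHom Fˣ F d) = -1
  refine sgn_cycle hodd Finite.one_lt_card _ 0 (smul_zero d) fun x y hx hy => ?_
  have h1 : Units.mk0 y hy * (Units.mk0 x hx)⁻¹ ∈ Submonoid.powers d := mem_powers_iff_mem_zpowers.2 (hd _)
  obtain ⟨n, hn⟩ := h1
  have hn : d ^ n = Units.mk0 y hy * (Units.mk0 x hx)⁻¹ := hn
  refine ⟨n, ?_⟩
  rw [← map_pow]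
  show (d ^ n) • x = y
  rw [hn, Units.smul_def, Units.val_mul, Units.val_mk0, smul_eq_mul, mul_assoc, Units.val_inv_eq_inv_val,
    Units.val_mk0, inv_mul_cancel₀ hx, mul_one]

/-- the sign of an element acting as a scalar -/
theorem sg_scal {V : Subgroup G} {z : F → G} (z_inj : Function.Injective z) (hz : ∀ y, y ∈ V ↔ ∃ a, z a = y)
    {c : Fˣ} {t : G} (ht : t ∈ Subgroup.normalizer (V : Set G)) (h : ∀ a, t * z a * t⁻¹ = z ((c : F) * a)) :
    sg V ⟨t, ht⟩ = smul F c := by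
  rw [sg_apply]
  refine (sgn_equiv _ _ (Equiv.ofBijective (fun a : F => (⟨z a, (hz _).2 ⟨a, rfl⟩⟩ : V)) ⟨?_, ?_⟩) fun a => ?_).symm
  · intro a b hab
    exact z_inj (congrArg Subtype.val hab)
  · rintro ⟨y, hy⟩
    obtain ⟨a, ha⟩ := (hz y).1 hy
    exact ⟨a, Subtype.ext ha⟩
  · apply Subtype.ext
    show z ((c : F) * a) = t * z a * t⁻¹
    exact (h a).symm

theorem smul_zpow (hodd : Odd (Nat.card F)) {d : Fˣ} (hd : ∀ x : Fˣ, x ∈ Subgroup.zpowers d) (e : ℤ) :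
    smul F (d ^ e) = (-1) ^ e := by
  rw [map_zpow, smul_gen hodd hd]

theorem neg_one_zpow_eq {e e' : ℤ} (h : ((-1 : ℤˣ)) ^ e = (-1) ^ e') : ¬ Odd (e - e') := by
  intro ho
  have h1 : ((-1 : ℤˣ)) ^ (e - e') = 1 := by rw [zpow_sub, h, mul_inv_cancel]
  obtain ⟨k, hk⟩ := ho
  rw [hk, zpow_add, zpow_mul, zpow_one] at h1
  have h2 : ((-1 : ℤˣ)) ^ (2 : ℤ) = 1 := rfl
  rw [h2, one_zpow, one_mul] at h1
  exact absurd h1 (by decide)

end Scal

section Sep

open CoxeterSystem Cfsg.Agent.ChevalleyStructure.CoxeterGeom Cfsg.Agent.Tits.Roots Cfsg.Agent.Nodes.Reps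
  Cfsg.Agent.Nodes.BNOf Cfsg.Agent.Nodes.StabComb

variable {I W Y : Type*} [Fintype I] [DecidableEq I] [Group W] [Finite W] [Group Y] {M : CoxeterMatrix I}
  {cs : CoxeterSystem M W} {A : I → I → ℤ} {h : IsCartan M A} {T : Subgroup Y}
  {X : (I → ℤ) → Subgroup Y} {r : I → ℤ} {F : Type*} [Field F] {x : (I → ℤ) → F → Y}

/-- **(SEP)** from coordinates -/
theorem sep_coords [Finite Y] [Finite F] (hodd : Odd (Nat.card F))
    (x_inj : ∀ w : W, Function.Injective (x (rep cs h w r)))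
    (hx : ∀ (w : W) y, y ∈ X (rep cs h w r) ↔ ∃ a, x (rep cs h w r) a = y)
    {J : Type*} {e : J → (I → ℤ) → ℤ} (tor : ∀ j, ∀ d : Fˣ, ∃ t ∈ T, ∀ w, ∀ a,
      t * x (rep cs h w r) a * t⁻¹ = x (rep cs h w r) (((d ^ e j (rep cs h w r) : Fˣ) : F) * a))
    (odd2 : ∀ w, rep cs h w r ≠ r → rep cs h w r ≠ -r → ∃ j, Odd (e j r - e j (rep cs h w r)))
    (w : W) (hs : ∀ t ∈ T, ∀ (h1 : t ∈ Subgroup.normalizer (X (rep cs h w r) : Set Y))
      (h2 : t ∈ Subgroup.normalizer (X r : Set Y)), sg (X (rep cs h w r)) ⟨t, h1⟩ = sg (X r) ⟨t, h2⟩) :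
    rep cs h w r = r ∨ rep cs h w r = -r := by
  by_contra hcon
  push Not at hcon
  obtain ⟨j, hj⟩ := odd2 w hcon.1 hcon.2
  obtain ⟨d, hd⟩ := IsCyclic.exists_generator (α := Fˣ)
  obtain ⟨t, ht, h3⟩ := tor j d
  have hN : ∀ w : W, t ∈ Subgroup.normalizer (X (rep cs h w r) : Set Y) := by
    intro w
    have h5 : (X (rep cs h w r)).map (MulAut.conj t).toMonoidHom ≤ X (rep cs h w r) := by
      rintro _ ⟨y, hy, rfl⟩
      obtain ⟨a, rfl⟩ := (hx w y).1 hy
      exact (hx w _).2 ⟨_, (h3 w a).symm⟩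
    have h6 : (X (rep cs h w r)).map (MulAut.conj t).toMonoidHom = X (rep cs h w r) :=
      Subgroup.eq_of_le_of_card_ge h5 (by
        rw [Nat.card_congr ((X (rep cs h w r)).equivMapOfInjective (MulAut.conj t).toMonoidHom
          (MulAut.conj t).injective).toEquiv])
    rw [Subgroup.mem_normalizer_iff]
    intro y
    constructor
    · exact fun hy => h5 ⟨y, hy, rfl⟩
    · intro hy
      have hy' : t * y * t⁻¹ ∈ (X (rep cs h w r)).map (MulAut.conj t).toMonoidHom := by rw [h6]; exact hy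
      obtain ⟨y', hy', e⟩ := hy'
      have : y' = y := (MulAut.conj t).injective e
      rwa [← this]
  have h1 : rep cs h (1 : W) r = r := by rw [map_one, Module.End.one_apply]
  have h7 := hN 1
  have h8 := x_inj 1
  have h9 := hx 1
  have h10 := h3 1
  rw [h1] at h7 h8 h9 h10
  have h4 := hs t ht (hN w) h7
  rw [sg_scal (x_inj w) (hx w) (hN w) (h3 w), sg_scal h8 h9 h7 h10, smul_zpow hodd hd, smul_zpow hodd hd] at h4
  exact neg_one_zpow_eq h4.symm hj

end Sep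

section Tw

open CoxeterSystem Cfsg.Agent.ChevalleyStructure.CoxeterGeom Cfsg.Agent.Tits.Roots Cfsg.Agent.Tits.Core
  Cfsg.Agent.Nodes.Reps Cfsg.Agent.Nodes.BNOf Cfsg.Agent.Nodes.StabComb Cfsg.Agent.Nodes.OppDec Cfsg.Agent.Nodes.Bruhat
  Cfsg.Agent.Nodes.RGDTwGen Cfsg.Agent.Nodes.RGDChev Cfsg.Agent.Nodes.RGDFold
  Cfsg.Agent.Nodes.RGDFoldSL Cfsg.Agent.Nodes.RGDTwCoord Cfsg.Agent.Nodes.NormX Cfsg.Agent.Nodes.LeviDec
  Cfsg.Agent.KFacts.RgdAut Cfsg.Agent.KFacts.RgdDiag Cfsg.Agent.KFacts.RgdRigid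
open Cfsg.Lie Cfsg.Agent.ChevalleyStructure Cfsg.Agent.ChevalleyStructure.Elts Cfsg.Agent.H967.ThRgd Cfsg.Agent.H967.ThTw

universe u

variable {D : ChevalleyDatum} {l m : ℕ} {M' : CoxeterMatrix (Fin l)} {hp : IsType D l M'} {K : Type u} [Field K]
  {M : CoxeterMatrix (Fin m)} {A : Fin m → Fin m → ℤ} {J : Fin m → List (Fin l)} {L : List (List ℕ)}
  {σ : GL D.Idx K →* GL D.Idx K} {ρ ρ' : ℕ → ℕ} {f : ℕ → K → K} {G : Subgroup (GL D.Idx K)} {φ : K →+* K}
  {ε δ : ℕ → ℤ} {O : List (List ℕ)} {dg : ℕ → ℕ → ℕ}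
  {W : Type*} [Group W] {t : ℕ} [Finite K] {p : ℕ} [Fact p.Prime] [CharP K p]

/-- the data for the twisted groups -/
theorem tw_data (TC : TwC hp K M A J L σ ρ ρ' f G φ ε δ O dg) (C : Chk D M A J O dg t) (hp2 : p ≠ 2)
    (cs : CoxeterSystem M W) (h : IsCartan M A) [Finite W]
    {rp : Fin m → ℕ} {rest : Fin m → List ℕ} (NO : ∀ i, NodeOK D J L ρ i (rp i) (rest i))
    (hf : ∀ i, ∀ s ∈ rp i :: rest i, ∀ t, f s t = φ t)
    (hsym : ∀ i j, Nat.card {a : K // Ok D J O φ (sr i) a} = Nat.card {a : K // Ok D J O φ (sr j) a} →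
      (cl D J O (sr i)).length = (cl D J O (sr j)).length)
    (hN : ∀ j (d : K), φ d = d → d ≠ 0 → ∃ c : K, c ≠ 0 ∧ φ^[(rest j).length + 1] c = c ∧
      ∀ s, [s] ∈ O → wt D φ (J j) s c = d ^ D.cartan (jh J j) s) :
    IsRoot cs h (V D J t) ∧
    GG cs h ((D.diagonalSubgroup K ⊓ G).subgroupOf G) (XT D hp K J σ G) = ⊤ ∧
    RGD.B cs h ((D.diagonalSubgroup K ⊓ G).subgroupOf G) (XT D hp K J σ G) ≤
      Subgroup.normalizer (XT D hp K J σ G (V D J t) : Set ↥G) ∧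
    (∀ w : W, (∀ s ∈ (D.diagonalSubgroup K ⊓ G).subgroupOf G,
      ∀ (h1 : s ∈ Subgroup.normalizer (XT D hp K J σ G (rep cs h w (V D J t)) : Set ↥G))
      (h2 : s ∈ Subgroup.normalizer (XT D hp K J σ G (V D J t) : Set ↥G)),
      sg (XT D hp K J σ G (rep cs h w (V D J t))) ⟨s, h1⟩ = sg (XT D hp K J σ G (V D J t)) ⟨s, h2⟩) →
      rep cs h w (V D J t) = V D J t ∨ rep cs h w (V D J t) = -V D J t) ∧
    ∀ ψ : MulAut ↥G, ∃ s : ↥G, ∀ x, s * ψ x * s⁻¹ ∈ XT D hp K J σ G (V D J t) ↔ x ∈ XT D hp K J σ G (V D J t) := by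
  have hV : IsRoot cs h (V D J t) :=
    (TC.FD.isRoot_iff hp.checked (fun i _ hr => wp_lt hp (J i) hr) _).2 ⟨t, C.lt, rfl⟩
  have R := Cfsg.Agent.Nodes.RGDFold.rgd cs h TC.FD TC.FG p
  have hG : GG cs h ((D.diagonalSubgroup K ⊓ G).subgroupOf G) (XT D hp K J σ G) = ⊤ :=
    GG_eq_top (by
      have := Cfsg.Agent.Nodes.RGDFold.G1_eq_top cs h TC.FD TC.FG p
      exact this)
  have hchar : CharP (FF φ) p := inferInstance
  have hok : ∀ (w : W) (a : FF φ), Ok D J O φ (rep cs h w (V D J t)) (a : K) := fun w a =>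
    (ok_iff TC C w).2 (mem_FF.1 a.2)
  refine ⟨hV, hG, B_le (p := p) TC C hV, ?_, ?_⟩
  · have hodd : Odd (Nat.card (FF φ)) := by
      have : Fintype (FF φ) := Fintype.ofFinite _
      obtain ⟨n, hpr, hn⟩ := FiniteField.card (FF φ) p
      rw [Nat.card_eq_fintype_card, hn]
      exact (hpr.odd_of_ne_two hp2).pow
    refine sep_coords (F := FF φ) (x := fun z a => Cfsg.Agent.Nodes.RGDTwCoord.x hp J φ δ O G z (a : K)) hodd ?_ ?_
      (J := Fin m) (e := fun j z => D.cartan (jh J j) ((cl D J O z).headD 0)) ?_ ?_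
    · intro w a b hab
      exact Subtype.ext (TC.x_inj cs h p (hV.act w) (hok w a) (hok w b) hab)
    · intro w y
      rw [TC.mem_X cs h p (hV.act w)]
      constructor
      · rintro ⟨a, ha, rfl⟩
        exact ⟨⟨a, (ok_iff TC C w).1 ha⟩, rfl⟩
      · rintro ⟨a, rfl⟩
        exact ⟨a, hok w a, rfl⟩
    · intro j d
      obtain ⟨c, hc0, hcφ, hc⟩ := hN j (d : FF φ) (mem_FF.1 (d : FF φ).2) (fun h0 => d.ne_zero (Subtype.ext h0))
      obtain ⟨h1, h2⟩ := TC.hI_mem (NO j) (hf j) hc0 hcφ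
      refine ⟨⟨hI hp φ (J j) c, h2⟩, ⟨h1, h2⟩, fun w a => ?_⟩
      have hz := hV.act (h := h) w
      obtain ⟨h4, h5⟩ := TC.hI_Y (NO j) (hf j) hc0 hcφ hz (hok w a)
      obtain ⟨ho, hh, -⟩ := TC.root hz
      obtain ⟨o', e⟩ := TC.head hz
      have hlen := len_one (cs := cs) (h := h) TC C w
      rw [e, List.length_cons] at hlen
      have ho' : o' = [] := List.length_eq_zero_iff.1 (by omega)
      rw [ho'] at e
      rw [e] at ho
      have hw := hc _ ho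
      rw [hw] at h4 h5
      have hval : ((((d ^ D.cartan (jh J j) ((cl D J O (rep cs h w (V D J t))).headD 0) : (FF φ)ˣ) : FF φ) * a : FF φ) : K) =
          (((d : FF φ) : K)) ^ D.cartan (jh J j) ((cl D J O (rep cs h w (V D J t))).headD 0) * (a : K) := by
        rw [Units.val_zpow_eq_zpow_val]
        push_cast
        rfl
      apply Subtype.ext
      rw [Subgroup.coe_mul, Subgroup.coe_mul, Subgroup.coe_inv, TC.coe_x cs h p hz (hok w a),
        TC.coe_x cs h p hz (hok w _), hval]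
      exact h5
    · intro w h1 h2
      obtain ⟨ho, hh, -⟩ := TC.root (hV.act (h := h) w)
      obtain ⟨j, hj⟩ := C.odd2 _ ho (len_one TC C w) (fun e => h1 (by rw [← hh, e])) (fun e => h2 (by rw [← hh, e]))
      refine ⟨j, ?_⟩
      show Odd (D.cartan (jh J j) ((cl D J O (V D J t)).headD 0) - D.cartan (jh J j) _)
      rw [C.cl_t, Int.odd_iff]
      exact hj
  · refine exists_conj_aut R hG ?_
    intro β τ hβ x
    have hτ := hβ.matrix R
    have hlen : ∀ i, (cl D J O (sr (τ i))).length = (cl D J O (sr i)).length := by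
      intro i
      apply hsym
      rw [← card_X (p := p) TC (isRoot_sr cs h (τ i)), ← card_X (p := p) TC (isRoot_sr cs h i)]
      refine (Nat.card_congr (β.toEquiv.subtypeEquiv fun x => ?_)).symm
      exact (hβ.pos i x).symm
    have h1 := C.sym τ hτ hlen
    subst h1
    exact hβ.root_comp R (fun _ _ => rfl) hV x

end Tw

end Cfsg.Agent.H932.OC
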